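import Cfsg.Agent.Lib.Grp.G23.D0

set_option autoImplicit false
set_option maxRecDepth 100000
set_option Elab.async false
set_option linter.unusedSectionVars false

namespace Cfsg.Agent.CG.G23

noncomputable def tabs : List ℕ := [t0,t1,t2,t3,t4,t5,t6,t7,t8,t9,t10,t11,t12,t13,t14,t15,t16,t17,t18,t19,t20,t21,t22,t23,t24,t25,t26,t27,t28,t29,t30,t31,t32,t33,t34,t35,t36,t37,t38,t39,t40,t41,t42,t43,t44,t45,t46,t47,t48,t49]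
noncomputable abbrev app : ℕ → ℕ → ℕ := appT tabs t50 0xffff
noncomputable def slpL : List (Bool × List ℕ) := [(false,[]),
  (false,[]),
  (false,[]),
  (false,[2,0]),
  (true,[3]),
  (false,[0]),
  (false,[3]),
  (true,[6]),
  (false,[2,0,1,4,2,5,4,0,2,5,3,5,4,5,1,0,3,5,1,3,2,0,1]),
  (false,[8,7,8,6]),
  (true,[9]),
  (false,[8,10,8,9]),
  (true,[11]),
  (false,[11,9,6]),
  (true,[13]),
  (false,[8,10,14,11,13,13]),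
  (true,[15]),
  (false,[7,12,14,10]),
  (true,[17]),
  (false,[7,11,7,13,10,14]),
  (true,[19]),
  (false,[15,19]),
  (true,[21]),
  (false,[18,18]),
  (true,[23]),
  (false,[19,19,16]),
  (true,[25]),
  (false,[15,18,15]),
  (true,[27]),
  (false,[27]),
  (true,[29]),
  (false,[25,28,26]),
  (true,[31]),
  (false,[23,26,21]),
  (true,[33]),
  (false,[34,31,29]),
  (true,[35]),
  (false,[36]),
  (true,[37]),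
  (false,[30,36]),
  (true,[39]),
  (false,[34,35]),
  (true,[41]),
  (false,[23,34]),
  (true,[43]),
  (false,[24,21,31]),
  (true,[45]),
  (false,[15,15,26,33]),
  (true,[47]),
  (false,[14,8,7,7,15,15,21,32,36])]
noncomputable def slp (a : ℕ) : Bool × List ℕ := nth slpL (false, []) a
noncomputable def invL : List ℕ := [0,2,1,4,3,5,7,6,8,10,9,12,11,14,13,16,15,18,17,20,19,22,21,24,23,26,25,28,27,30,29,32,31,34,33,36,35,38,37,40,39,42,41,44,43,46,45,48,47,49]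
noncomputable def inv (a : ℕ) : ℕ := nth invL 50 a
noncomputable def bs : List ℕ := [352,1440,8336,7408,3728]
noncomputable def mc0 : Lvl := ⟨352, [6,7,8,9,10,11,12,13,14], 728,
  fun i => look 0xffff mc0c (Nat.mul 16 i), fun i => look 0xfff mc0p (Nat.mul 12 i),
  fun i => look 0xff mc0l (Nat.mul 8 i), fun i => look 0xff mc0i (Nat.mul 8 i), fun x => look 0xffff mc0q x, 5⟩
noncomputable def mc1 : Lvl := ⟨1440, [15,16,17,18,19,20], 24,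
  fun i => look 0xffff mc1c (Nat.mul 16 i), fun i => look 0xff mc1p (Nat.mul 8 i),
  fun i => look 0xff mc1l (Nat.mul 8 i), fun i => look 0xff mc1i (Nat.mul 8 i), fun x => look 0xffff mc1q x, 3⟩
noncomputable def mc2 : Lvl := ⟨8336, [21,22,23,24,25,26], 9,
  fun i => look 0xffff mc2c (Nat.mul 16 i), fun i => look 0xf mc2p (Nat.mul 4 i),
  fun i => look 0xff mc2l (Nat.mul 8 i), fun i => look 0xff mc2i (Nat.mul 8 i), fun x => look 0xffff mc2q x, 2⟩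
noncomputable def mc3 : Lvl := ⟨7408, [29,30,31,32,33,34], 9,
  fun i => look 0xffff mc3c (Nat.mul 16 i), fun i => look 0xf mc3p (Nat.mul 4 i),
  fun i => look 0xff mc3l (Nat.mul 8 i), fun i => look 0xff mc3i (Nat.mul 8 i), fun x => look 0xffff mc3q x, 2⟩
noncomputable def mc4 : Lvl := ⟨3728, [35,36], 3,
  fun i => look 0xffff mc4c (Nat.mul 16 i), fun i => look 0xf mc4p (Nat.mul 4 i),
  fun i => look 0xff mc4l (Nat.mul 8 i), fun i => look 0xff mc4i (Nat.mul 8 i), fun x => look 0xffff mc4q x, 1⟩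
noncomputable def mc : List Lvl := [mc0, mc1, mc2, mc3, mc4]
noncomputable def tcR : List (List ℕ) := [[37,38],
  [38,37],
  [37,37,37],
  [39,40],
  [40,39],
  [41,42],
  [42,41],
  [39,39,39],
  [41,41,41],
  [40,37,39,38],
  [42,37,41,38],
  [40,42,39,41],
  [43,44],
  [44,43],
  [45,46],
  [46,45],
  [43,43,43],
  [45,45,45],
  [44,37,43,38],
  [46,37,45,42],
  [44,39,43,40],
  [44,41,43,42],
  [45,37,46,37,41],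
  [46,39,45,38,40,41],
  [44,46,43,45,37,42],
  [47,48],
  [48,47],
  [48,48,48,48],
  [48,38,43,47,37,44],
  [47,37,47,37,47,37],
  [47,38,48,38,47,42],
  [48,40,45,38,47,41,44],
  [47,40,47,40,47,41,46],
  [48,40,47,40,48,43,45],
  [49,49],
  [49,37,49,38],
  [49,41,49,41],
  [49,39,49,38,39],
  [49,44,46,49,45,49,42,46,48,48],
  [49,44,49,43,49,43,49,37,39,44],
  [49,43,46,48,49,39,48,49,43,45,48,45]]
noncomputable def tc0T : List ℕ := [0,0,0,0,0,0,0,0,0,0,0,0,0,0,0,0,0,0,0,0,0,0,0,0,0,0,0,0,0,0,0,0,0,0,0,0,0,tc0t37,tc0t38,tc0t39,tc0t40,tc0t41,tc0t42,tc0t43,tc0t44,tc0t45,tc0t46,tc0t47,tc0t48,tc0t49]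
noncomputable def tc0r : Tr Rule := (.node (.node (.node (.node (.node (.node (.node (.node (.leaf ⟨49,[49],34,1⟩) (.leaf ⟨43,[45,48,45,49,43,46,48,49,39,48,49],40,8⟩)) (.leaf ⟨39,[38,40,37],9,2⟩)) (.node (.leaf ⟨37,[49,38,49],35,1⟩) (.leaf ⟨49,[38,49,37],35,2⟩))) (.node (.node (.leaf ⟨37,[37,37],2,2⟩) (.leaf ⟨39,[39,39],7,1⟩)) (.node (.leaf ⟨43,[42,44,41],21,2⟩) (.leaf ⟨40,[45,38,47,41,44,48],31,1⟩)))) (.node (.node (.node (.node (.leaf ⟨37,[38],0,0⟩) (.leaf ⟨47,[41,44,48,40,45,38],31,4⟩)) (.leaf ⟨44,[46,43,45,37,42],24,0⟩)) (.node (.leaf ⟨47,[37,47,37,47,37],29,4⟩) (.leaf ⟨48,[48,48,48],27,1⟩))) (.node (.node (.leaf ⟨37,[45,42,46],19,1⟩) (.leaf ⟨49,[38,39,49,39],37,2⟩)) (.node (.leaf ⟨41,[43,42,44],21,1⟩) (.leaf ⟨49,[42,46,48,48,49,44,46,49,45],38,5⟩))))) (.node (.node (.node (.node (.node (.leaf ⟨45,[46],14,0⟩)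 (.leaf ⟨49,[41,49,41],36,0⟩)) (.leaf ⟨42,[39,41,40],11,1⟩)) (.node (.leaf ⟨47,[42,47,38,48,38],30,4⟩) (.leaf ⟨48,[38,43,47,37,44],28,0⟩))) (.node (.node (.leaf ⟨40,[42,39,41],11,0⟩) (.leaf ⟨44,[41,43,42],21,0⟩)) (.node (.leaf ⟨47,[40,47,41,46,47,40],32,2⟩) (.leaf ⟨46,[49,45,49,42,46,48,48,49,44],38,2⟩)))) (.node (.node (.node (.node (.leaf ⟨41,[42],5,0⟩) (.leaf ⟨42,[46,48,48,49,44,46,49,45,49],38,6⟩)) (.leaf ⟨42,[44,46,43,45,37],24,5⟩)) (.node (.leaf ⟨37,[41,45,37,46],22,3⟩) (.leaf ⟨37,[47,37,47,37,47],29,1⟩))) (.node (.node (.leaf ⟨46,[37,45,42],19,0⟩) (.leaf ⟨41,[44,48,40,45,38,47],31,5⟩)) (.node (.leaf ⟨43,[47,37,44,48,38],28,2⟩) (.leaf ⟨49,[43,49,37,39,44,49,44,49,43],39,4⟩)))))) (.node (.node (.node (.node (.node (.node (.leaf ⟨43,[44],12,0⟩) (.leaf ⟨48,[49,43,45,48,45,49,43,46,48,49,39],40,6⟩)) (.leaf ⟨41,[38,42,37],10,2⟩))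 (.node (.leaf ⟨38,[44,37,43],18,3⟩) (.leaf ⟨49,[41,49,41],36,2⟩))) (.node (.node (.leaf ⟨37,[39,38,40],9,1⟩) (.leaf ⟨45,[38,40,41,46,39],23,2⟩)) (.node (.leaf ⟨42,[47,38,48,38,47],30,5⟩) (.leaf ⟨49,[45,49,42,46,48,48,49,44,46],38,3⟩)))) (.node (.node (.node (.node (.leaf ⟨39,[40],3,0⟩) (.leaf ⟨49,[37,39,44,49,44,49,43,49,43],39,6⟩)) (.leaf ⟨41,[46,39,45,38,40],23,5⟩)) (.node (.leaf ⟨48,[48,48,48],27,2⟩) (.leaf ⟨38,[48,38,47,42,47],30,1⟩))) (.node (.node (.leaf ⟨42,[46,37,45],19,3⟩) (.leaf ⟨49,[39,49,38,39],37,0⟩)) (.node (.leaf ⟨48,[38,47,42,47,38],30,2⟩) (.leaf ⟨43,[49,43,49,37,39,44,49,44,49],39,3⟩))))) (.node (.node (.node (.node (.node (.leaf ⟨47,[48],25,0⟩) (.leaf ⟨49,[44,49,43,49,43,49,37,39,44],39,0⟩)) (.leaf ⟨39,[45,38,40,41,46],23,1⟩)) (.node (.leaf ⟨44,[37,43,38],18,0⟩) (.leaf ⟨38,[47,42,47,38,48],30,3⟩)))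 (.node (.node (.leaf ⟨39,[41,40,42],11,2⟩) (.leaf ⟨39,[49,39,49,38],37,4⟩)) (.node (.leaf ⟨41,[49,41,49],36,3⟩) (.leaf ⟨45,[49,42,46,48,48,49,44,46,49],38,4⟩)))) (.node (.node (.node (.leaf ⟨45,[45,45],17,2⟩) (.leaf ⟨45,[37,46,37,41],22,0⟩)) (.node (.leaf ⟨44,[39,43,40],20,0⟩) (.leaf ⟨45,[48,40,47,40,48,43],33,6⟩))) (.node (.node (.leaf ⟨47,[40,48,43,45,48,40],33,2⟩) (.leaf ⟨43,[45,48,40,47,40,48],33,5⟩)) (.node (.leaf ⟨46,[39,45,38,40,41],23,0⟩) (.leaf ⟨49,[43,49,43,49,37,39,44,49,44],39,2⟩))))))) (.node (.node (.node (.node (.node (.node (.node (.leaf ⟨44,[43],12,1⟩) (.leaf ⟨49,[39,48,49,43,45,48,45,49,43,46,48],40,4⟩)) (.leaf ⟨42,[37,41,38],10,0⟩)) (.node (.leaf ⟨37,[43,38,44],18,1⟩) (.leaf ⟨49,[37,49,38],35,0⟩))) (.node (.node (.leaf ⟨38,[40,37,39],9,3⟩) (.leaf ⟨38,[40,41,46,39,45],23,3⟩)) (.node (.leaf ⟨43,[43,43],16,1⟩)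 (.leaf ⟨46,[48,48,49,44,46,49,45,49,42],38,7⟩)))) (.node (.node (.node (.node (.leaf ⟨40,[39],3,1⟩) (.leaf ⟨48,[43,45,48,40,47,40],33,4⟩)) (.leaf ⟨45,[42,46,37],19,2⟩)) (.node (.leaf ⟨43,[38,44,37],18,2⟩) (.leaf ⟨45,[37,42,44,46,43],24,3⟩))) (.node (.node (.leaf ⟨39,[43,40,44],20,1⟩) (.leaf ⟨39,[49,38,39,49],37,1⟩)) (.node (.leaf ⟨43,[45,37,42,44,46],24,2⟩) (.leaf ⟨43,[49,37,39,44,49,44,49,43,49],39,5⟩))))) (.node (.node (.node (.node (.node (.leaf ⟨48,[47],25,1⟩) (.leaf ⟨48,[40,45,38,47,41,44],31,0⟩)) (.leaf ⟨37,[41,38,42],10,1⟩)) (.node (.leaf ⟨47,[38,48,38,47,42],30,0⟩) (.leaf ⟨47,[37,47,37,47,37],29,2⟩))) (.node (.node (.leaf ⟨40,[44,39,43],20,3⟩) (.leaf ⟨40,[47,41,46,47,40,47],32,3⟩)) (.node (.leaf ⟨46,[47,40,47,40,47,41],32,6⟩) (.leaf ⟨47,[41,46,47,40,47,40],32,4⟩)))) (.node (.node (.node (.node (.leaf ⟨43,[43,43],16,2⟩)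 (.leaf ⟨48,[45,49,43,46,48,49,39,48,49,43,45],40,10⟩)) (.leaf ⟨41,[41,41],8,1⟩)) (.node (.leaf ⟨37,[37,37],2,1⟩) (.leaf ⟨47,[40,47,40,47,41,46],32,0⟩))) (.node (.node (.leaf ⟨41,[45,37,46,37],22,4⟩) (.leaf ⟨41,[46,47,40,47,40,47],32,5⟩)) (.node (.leaf ⟨45,[38,47,41,44,48,40],31,2⟩) (.leaf ⟨44,[49,43,49,43,49,37,39,44,49],39,1⟩)))))) (.node (.node (.node (.node (.node (.node (.leaf ⟨46,[45],14,1⟩) (.leaf ⟨49,[43,46,48,49,39,48,49,43,45,48,45],40,0⟩)) (.leaf ⟨40,[41,46,39,45,38],23,4⟩)) (.node (.leaf ⟨37,[44,48,38,43,47],28,4⟩) (.leaf ⟨47,[37,44,48,38,43],28,3⟩))) (.node (.node (.leaf ⟨39,[39,39],7,2⟩) (.leaf ⟨41,[40,42,39],11,3⟩)) (.node (.leaf ⟨37,[46,37,41,45],22,1⟩) (.leaf ⟨48,[49,44,46,49,45,49,42,46,48],38,9⟩)))) (.node (.node (.node (.node (.leaf ⟨42,[41],5,1⟩) (.leaf ⟨49,[44,46,49,45,49,42,46,48,48],38,0⟩))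 (.leaf ⟨45,[45,45],17,1⟩)) (.node (.leaf ⟨43,[40,44,39],20,2⟩) (.leaf ⟨37,[47,37,47,37,47],29,5⟩))) (.node (.node (.leaf ⟨38,[42,37,41],10,3⟩) (.leaf ⟨41,[49,41,49],36,1⟩)) (.node (.leaf ⟨37,[47,37,47,37,47],29,3⟩) (.leaf ⟨44,[49,44,49,43,49,43,49,37,39],39,9⟩))))) (.node (.node (.node (.node (.node (.leaf ⟨38,[37],0,1⟩) (.leaf ⟨46,[37,41,45,37],22,2⟩)) (.leaf ⟨46,[43,45,37,42,44],24,1⟩)) (.node (.leaf ⟨38,[43,47,37,44,48],28,1⟩) (.leaf ⟨47,[37,47,37,47,37],29,0⟩))) (.node (.node (.leaf ⟨41,[41,41],8,2⟩) (.leaf ⟨38,[39,49,39,49],37,3⟩)) (.node (.leaf ⟨42,[44,41,43],21,3⟩) (.leaf ⟨44,[46,49,45,49,42,46,48,48,49],38,1⟩)))) (.node (.node (.node (.leaf ⟨48,[48,48,48],27,3⟩) (.leaf ⟨40,[48,43,45,48,40,47],33,3⟩)) (.node (.leaf ⟨44,[48,38,43,47,37],28,5⟩) (.leaf ⟨40,[47,40,47,41,46,47],32,1⟩))) (.node (.node (.leaf ⟨38,[49,37,49],35,3⟩)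 (.leaf ⟨48,[40,47,40,48,43,45],33,0⟩)) (.node (.leaf ⟨40,[37,39,38],9,0⟩) (.leaf ⟨40,[47,40,48,43,45,48],33,1⟩))))))))
noncomputable def tc0 : TCL := ⟨[37,38,39,40,41,42,43,44,45,46,47,48,49], [37,38,39,40,41,42,43,44,45,46,47,48], 728, 32, 0x7fff, 15, 0xff,
  fun a x => look 0xffffffff (nth tc0T 0 a) x, fun x => look 0xffffffff tc0d x, tc0r⟩
noncomputable def tc1T : List ℕ := [0,0,0,0,0,0,0,0,0,0,0,0,0,0,0,0,0,0,0,0,0,0,0,0,0,0,0,0,0,0,0,0,0,0,0,0,0,tc1t37,tc1t38,tc1t39,tc1t40,tc1t41,tc1t42,tc1t43,tc1t44,tc1t45,tc1t46,tc1t47,tc1t48]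
noncomputable def tc1r : Tr Rule := (.node (.node (.node (.node (.node (.node (.node (.leaf ⟨48,[47],25,1⟩) (.leaf ⟨40,[47,41,46,47,40,47],32,3⟩)) (.leaf ⟨41,[40,42,39],11,3⟩)) (.node (.leaf ⟨44,[43],12,1⟩) (.leaf ⟨45,[38,40,41,46,39],23,2⟩))) (.node (.node (.leaf ⟨37,[37,37],2,2⟩) (.leaf ⟨46,[37,45,42],19,0⟩)) (.node (.leaf ⟨41,[42],5,0⟩) (.leaf ⟨45,[48,40,47,40,48,43],33,6⟩)))) (.node (.node (.node (.leaf ⟨40,[39],3,1⟩) (.leaf ⟨44,[39,43,40],20,0⟩)) (.node (.leaf ⟨43,[40,44,39],20,2⟩) (.leaf ⟨40,[42,39,41],11,0⟩))) (.node (.node (.leaf ⟨48,[48,48,48],27,3⟩) (.leaf ⟨41,[43,42,44],21,1⟩)) (.node (.leaf ⟨42,[41],5,1⟩) (.leaf ⟨48,[48,48,48],27,1⟩))))) (.node (.node (.node (.node (.leaf ⟨38,[37],0,1⟩) (.leaf ⟨39,[38,40,37],9,2⟩)) (.node (.leaf ⟨44,[37,43,38],18,0⟩) (.leaf ⟨42,[46,37,45],19,3⟩))) (.node (.node (.leaf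 ⟨39,[39,39],7,2⟩) (.leaf ⟨47,[42,47,38,48,38],30,4⟩)) (.node (.leaf ⟨41,[44,48,40,45,38,47],31,5⟩) (.leaf ⟨48,[40,47,40,48,43,45],33,0⟩)))) (.node (.node (.node (.leaf ⟨46,[45],14,1⟩) (.leaf ⟨41,[38,42,37],10,2⟩)) (.node (.leaf ⟨42,[47,38,48,38,47],30,5⟩) (.leaf ⟨48,[43,45,48,40,47,40],33,4⟩))) (.node (.node (.leaf ⟨43,[47,37,44,48,38],28,2⟩) (.leaf ⟨43,[42,44,41],21,2⟩)) (.node (.leaf ⟨42,[44,41,43],21,3⟩) (.leaf ⟨38,[48,38,47,42,47],30,1⟩)))))) (.node (.node (.node (.node (.node (.node (.leaf ⟨47,[48],25,0⟩) (.leaf ⟨46,[47,40,47,40,47,41],32,6⟩)) (.leaf ⟨40,[37,39,38],9,0⟩)) (.node (.leaf ⟨43,[38,44,37],18,2⟩) (.leaf ⟨45,[45,45],17,1⟩))) (.node (.node (.leaf ⟨38,[40,37,39],9,3⟩) (.leaf ⟨45,[42,46,37],19,2⟩)) (.node (.leaf ⟨37,[47,37,47,37,47],29,3⟩) (.leaf ⟨40,[48,43,45,48,40,47],33,3⟩)))) (.node (.node (.node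 (.leaf ⟨39,[40],3,0⟩) (.leaf ⟨38,[40,41,46,39,45],23,3⟩)) (.node (.leaf ⟨47,[37,47,37,47,37],29,4⟩) (.leaf ⟨47,[41,46,47,40,47,40],32,4⟩))) (.node (.node (.leaf ⟨44,[48,38,43,47,37],28,5⟩) (.leaf ⟨41,[41,41],8,2⟩)) (.node (.leaf ⟨42,[37,41,38],10,0⟩) (.leaf ⟨38,[47,42,47,38,48],30,3⟩))))) (.node (.node (.node (.node (.leaf ⟨37,[38],0,0⟩) (.leaf ⟨42,[39,41,40],11,1⟩)) (.node (.leaf ⟨43,[43,43],16,2⟩) (.leaf ⟨38,[42,37,41],10,3⟩))) (.node (.node (.leaf ⟨45,[45,45],17,2⟩) (.leaf ⟨48,[48,48,48],27,2⟩)) (.node (.leaf ⟨45,[38,47,41,44,48,40],31,2⟩) (.leaf ⟨40,[47,40,48,43,45,48],33,1⟩)))) (.node (.node (.node (.leaf ⟨45,[46],14,0⟩) (.leaf ⟨37,[37,37],2,1⟩)) (.node (.leaf ⟨48,[38,47,42,47,38],30,2⟩) (.leaf ⟨47,[40,48,43,45,48,40],33,2⟩))) (.node (.node (.leaf ⟨43,[44],12,0⟩) (.leaf ⟨39,[41,40,42],11,2⟩)) (.node (.leaf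 ⟨37,[45,42,46],19,1⟩) (.leaf ⟨47,[37,47,37,47,37],29,2⟩)))))))
noncomputable def tc1 : TCL := ⟨[37,38,39,40,41,42,43,44,45,46,47,48], [37,38,39,40,41,42,43,44,45,46], 24, 24, 0x3ff, 10, 0x7f,
  fun a x => look 0xffffff (nth tc1T 0 a) x, fun x => look 0xffffff tc1d x, tc1r⟩
noncomputable def tc2T : List ℕ := [0,0,0,0,0,0,0,0,0,0,0,0,0,0,0,0,0,0,0,0,0,0,0,0,0,0,0,0,0,0,0,0,0,0,0,0,0,tc2t37,tc2t38,tc2t39,tc2t40,tc2t41,tc2t42,tc2t43,tc2t44,tc2t45,tc2t46]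
noncomputable def tc2r : Tr Rule := (.node (.node (.node (.node (.node (.leaf ⟨44,[43],12,1⟩) (.leaf ⟨40,[39],3,1⟩)) (.node (.leaf ⟨37,[38],0,0⟩) (.leaf ⟨43,[45,37,42,44,46],24,2⟩))) (.node (.node (.leaf ⟨43,[43,43],16,2⟩) (.leaf ⟨41,[45,37,46,37],22,4⟩)) (.leaf ⟨41,[42],5,0⟩))) (.node (.node (.node (.leaf ⟨46,[45],14,1⟩) (.leaf ⟨41,[43,42,44],21,1⟩)) (.leaf ⟨42,[46,37,45],19,3⟩)) (.node (.node (.leaf ⟨38,[44,37,43],18,3⟩) (.leaf ⟨40,[41,46,39,45,38],23,4⟩)) (.leaf ⟨39,[43,40,44],20,1⟩)))) (.node (.node (.node (.node (.leaf ⟨43,[44],12,0⟩) (.leaf ⟨42,[44,41,43],21,3⟩)) (.node (.leaf ⟨38,[37],0,1⟩) (.leaf ⟨44,[46,43,45,37,42],24,0⟩))) (.node (.node (.leaf ⟨45,[45,45],17,2⟩) (.leaf ⟨37,[41,45,37,46],22,3⟩)) (.leaf ⟨40,[44,39,43],20,3⟩))) (.node (.node (.node (.leaf ⟨45,[46],14,0⟩) (.leaf ⟨42,[41],5,1⟩)) (.leaf ⟨37,[45,42,46],19,1⟩))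 (.node (.node (.leaf ⟨37,[43,38,44],18,1⟩) (.leaf ⟨39,[45,38,40,41,46],23,1⟩)) (.leaf ⟨39,[40],3,0⟩)))))
noncomputable def tc2 : TCL := ⟨[37,38,39,40,41,42,43,44,45,46], [37,38,39,40,41,42], 9, 20, 0xff, 8, 0x1f,
  fun a x => look 0xfffff (nth tc2T 0 a) x, fun x => look 0xfffff tc2d x, tc2r⟩
noncomputable def tc3T : List ℕ := [0,0,0,0,0,0,0,0,0,0,0,0,0,0,0,0,0,0,0,0,0,0,0,0,0,0,0,0,0,0,0,0,0,0,0,0,0,tc3t37,tc3t38,tc3t39,tc3t40,tc3t41,tc3t42]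
noncomputable def tc3r : Tr Rule := (.node (.node (.node (.node (.leaf ⟨40,[39],3,1⟩) (.leaf ⟨37,[38],0,0⟩)) (.node (.leaf ⟨39,[39,39],7,2⟩) (.leaf ⟨39,[41,40,42],11,2⟩))) (.node (.node (.leaf ⟨42,[41],5,1⟩) (.leaf ⟨38,[42,37,41],10,3⟩)) (.leaf ⟨38,[40,37,39],9,3⟩))) (.node (.node (.node (.leaf ⟨39,[40],3,0⟩) (.leaf ⟨38,[37],0,1⟩)) (.node (.leaf ⟨41,[41,41],8,2⟩) (.leaf ⟨40,[42,39,41],11,0⟩))) (.node (.node (.leaf ⟨41,[42],5,0⟩) (.leaf ⟨37,[41,38,42],10,1⟩)) (.leaf ⟨37,[39,38,40],9,1⟩))))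
noncomputable def tc3 : TCL := ⟨[37,38,39,40,41,42], [37,38], 9, 16, 0xff, 8, 0x1f,
  fun a x => look 0xffff (nth tc3T 0 a) x, fun x => look 0xffff tc3d x, tc3r⟩
noncomputable def tc4T : List ℕ := [0,0,0,0,0,0,0,0,0,0,0,0,0,0,0,0,0,0,0,0,0,0,0,0,0,0,0,0,0,0,0,0,0,0,0,0,0,tc4t37,tc4t38]
noncomputable def tc4r : Tr Rule := (.node (.node (.leaf ⟨38,[37],0,1⟩) (.leaf ⟨37,[37,37],2,2⟩)) (.leaf ⟨37,[38],0,0⟩))
noncomputable def tc4 : TCL := ⟨[37,38], [], 3, 16, 0x3f, 6, 0x7,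
  fun a x => look 0xffff (nth tc4T 0 a) x, fun x => look 0xffff tc4d x, tc4r⟩
noncomputable def tc : List TCL := [tc0, tc1, tc2, tc3, tc4]
noncomputable def inW : List (List ℕ) := [[44,49,42,48,43,49,48,45,44,42,39,37],
  [49,45,48,49,43,49,47,45,47,46,43,42,39,38],
  [40,49,48,44,49,39,47,45,44,39,37]]
noncomputable def tcS : List ℕ := [37,38,39,40,41,42,43,44,45,46,47,48,49]

end Cfsg.Agent.CG.G23
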